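import Groth.Agent.SuppLib.Basic
import Groth.Agent.DCohLib.StalkTensor
import Groth.Agent.QCohLib.Push
import Groth.Agent.GenFree.Modules
import Groth.Prelude.Def_FlatMod2

/-!
# Going down for flat modules; supports of tensor products with inverse images
-/

set_option autoImplicit false
set_option linter.style.haveILetI false
set_option backward.isDefEq.respectTransparency false

universe u

open CategoryTheory AlgebraicGeometry TopologicalSpace
open scoped TensorProduct

namespace Groth.Agent.FlatMaxLib

theorem exists_prime_over {R S M : Type u} [CommRing R] [CommRing S] [IsLocalRing S] [Algebra R S]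
    [AddCommGroup M] [Module S M] [Module R M] [IsScalarTower R S M] [Module.Finite S M] [Nontrivial M]
    [Module.Flat R M] (p : Ideal R) [p.IsPrime] (hp : p.map (algebraMap R S) ≤ IsLocalRing.maximalIdeal S) :
    ∃ q : Ideal S, q.IsPrime ∧ Module.annihilator S M ≤ q ∧ q.comap (algebraMap R S) = p := by
  let J := p.map (algebraMap R S)
  let P : Submodule S M := J • ⊤
  have hP : P ≠ ⊤ := fun h => top_ne_bot (α := Submodule S M) <|
    Submodule.eq_bot_of_le_smul_of_le_jacobson_bot J ⊤ Module.Finite.fg_top h.ge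
      (hp.trans (IsLocalRing.jacobson_eq_maximalIdeal ⊥ bot_ne_top).ge)
  let N := M ⧸ P
  haveI : Nontrivial N := Submodule.Quotient.nontrivial_iff.2 hP
  have hI : Module.annihilator S N ≠ ⊤ := fun h => by
    have := Module.annihilator_eq_top_iff.1 h
    exact not_subsingleton N this
  obtain ⟨q, hq, -⟩ := Ideal.exists_minimalPrimes_le (I := Module.annihilator S N)
    (J := IsLocalRing.maximalIdeal S) (IsLocalRing.le_maximalIdeal hI)
  refine ⟨q, hq.1.1, (P.mkQ.annihilator_le_of_surjective P.mkQ_surjective).trans hq.1.2, le_antisymm ?_ ?_⟩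
  · intro r hr
    by_contra hrp
    obtain ⟨y, hy, hry⟩ := Ideal.exists_mul_mem_of_mem_minimalPrimes hq hr
    refine hy (Module.mem_annihilator.2 fun z => ?_)
    have hreg : IsSMulRegular (R ⧸ p) r := fun a b h => by
      obtain ⟨a, rfl⟩ := Ideal.Quotient.mk_surjective a
      obtain ⟨b, rfl⟩ := Ideal.Quotient.mk_surjective b
      change Ideal.Quotient.mk p (r * a) = Ideal.Quotient.mk p (r * b) at h
      rw [Ideal.Quotient.eq, ← mul_sub] at h
      exact Ideal.Quotient.eq.2 ((Ideal.IsPrime.mem_or_mem ‹_› h).resolve_left hrp)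
    have hM : IsSMulRegular (M ⧸ p • (⊤ : Submodule R M)) r :=
      ((TensorProduct.tensorQuotEquivQuotSMul M p).isSMulRegular_congr r).1 (IsSMulRegular.lTensor M hreg)
    obtain ⟨m, rfl⟩ := P.mkQ_surjective z
    have h0 : P.mkQ (algebraMap R S r • y • m) = 0 := by
      rw [← mul_smul, map_smul]
      exact Module.mem_annihilator.1 hry _
    rw [algebraMap_smul, Submodule.mkQ_apply, Submodule.Quotient.mk_eq_zero] at h0
    have hres : P.restrictScalars R = p • (⊤ : Submodule R M) := by
      exact Ideal.smul_restrictScalars p ⊤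
    rw [← map_smul, Submodule.mkQ_apply, Submodule.Quotient.mk_eq_zero, ← P.restrictScalars_mem R, hres,
      ← Submodule.Quotient.mk_eq_zero]
    refine hM.right_eq_zero_of_smul ?_
    rw [← Submodule.Quotient.mk_smul, Submodule.Quotient.mk_eq_zero, ← hres]
    exact h0
  · intro r hr
    refine hq.1.2 (Module.mem_annihilator.2 fun z => ?_)
    obtain ⟨m, rfl⟩ := P.mkQ_surjective z
    rw [← map_smul, Submodule.mkQ_apply, Submodule.Quotient.mk_eq_zero]
    exact Submodule.smul_mem_smul (Ideal.mem_map_of_mem _ hr) trivial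

variable {X Y : Scheme.{u}}

theorem mem_support_of_annihilator_le (F : X.Modules) (hF : Coh.IsCoh F) {x : X}
    (q : PrimeSpectrum (X.presheaf.stalk x))
    (hq : Module.annihilator (X.presheaf.stalk x) (F.presheaf.stalk x) ≤ q.asIdeal) :
    X.fromSpecStalk x q ∈ CohB1.support F := by
  classical
  haveI := hF.1
  intro hs
  let z := X.fromSpecStalk x q
  have hzx : z ⤳ x := by
    have : z ∈ Set.range (X.fromSpecStalk x) := ⟨q, rfl⟩
    rwa [Scheme.range_fromSpecStalk] at this
  haveI := PullbackMod.finite_stalk_of_isFT hF.2 x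
  obtain ⟨t, ht⟩ := (Module.Finite.fg_top : (⊤ : Submodule (X.presheaf.stalk x) (F.presheaf.stalk x)).FG)
  have key : ∀ e : F.presheaf.stalk x, ∃ a : X.presheaf.stalk x, a ∉ q.asIdeal ∧ a • e = 0 := by
    intro e
    obtain ⟨U, hxU, s, rfl⟩ := F.presheaf.exists_germ_eq e
    obtain ⟨W, hW, hxW, hWU⟩ := exists_isAffineOpen_mem_and_subset hxU
    have hzW : z ∈ W := hzx.mem_open W.2 hxW
    let s' : Γ(F, W) := F.presheaf.map (homOfLE hWU).op s
    obtain ⟨D, hzD, i₁, i₂, hD⟩ := F.presheaf.germ_eq z hzW hzW s' 0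
      (@Subsingleton.elim _ hs _ _)
    obtain ⟨a, haD, hza⟩ := hW.exists_basicOpen_le ⟨z, hzD⟩ hzW
    obtain ⟨n, hn⟩ := QCohLib.exists_pow_zero_of_isCompact F hW.isCompact a s' (by
      have h1 := congrArg (F.presheaf.map (homOfLE (fun w hw => haD hw : X.basicOpen a ≤ D)).op) hD
      rw [map_zero, map_zero, ← ConcreteCategory.comp_apply, ← Functor.map_comp] at h1
      exact h1)
    refine ⟨X.presheaf.germ W x hxW (a ^ n), ?_, ?_⟩
    · rw [map_pow]
      refine fun h => ?_
      have h1 : q ∈ X.fromSpecStalk x ⁻¹ᵁ X.basicOpen a := hza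
      rw [Scheme.preimage_basicOpen, Scheme.fromSpecStalk_app hxW] at h1
      simp only [CommRingCat.comp_apply, Scheme.basicOpen_res, basicOpen_eq_of_affine] at h1
      exact h1.2 (q.isPrime.mem_of_pow_mem n h)
    · have h1 := congrArg (F.presheaf.germ W x hxW) hn
      rw [GenFree.germ_sc, map_zero] at h1
      rw [show F.presheaf.germ W x hxW s' = F.presheaf.germ U x hxU s from
        F.presheaf.germ_res_apply (homOfLE hWU) x hxW s] at h1
      exact h1
  choose a ha hae using key
  have hmem : ∏ e ∈ t, a e ∈ Module.annihilator (X.presheaf.stalk x) (F.presheaf.stalk x) := by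
    refine Module.mem_annihilator.2 fun v => ?_
    have hv : v ∈ Submodule.span (X.presheaf.stalk x) (t : Set (F.presheaf.stalk x)) := ht ▸ trivial
    induction hv using Submodule.span_induction with
    | mem v hv =>
      rw [← Finset.prod_erase_mul t a hv, mul_smul, hae, smul_zero]
    | zero => exact smul_zero _
    | add v w _ _ h h' => rw [smul_add, h, h', add_zero]
    | smul c v _ h => rw [smul_comm, h, smul_zero]
  obtain ⟨e, -, he⟩ := (Ideal.IsPrime.prod_mem_iff (p := q.asIdeal)).1 (hq hmem)
  exact ha e he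

/-- Generisations lift to the support of a flat coherent module. -/
theorem exists_lift (f : X ⟶ Y) (F : X.Modules) (hF : Coh.IsCoh F) (hfl : FlatMod.IsFlatOver f F) {x : X}
    (hx : x ∈ CohB1.support F) {w : Y} (hw : w ⤳ f x) :
    ∃ z ∈ CohB1.support F, z ⤳ x ∧ f z = w := by
  haveI := hF.1
  obtain ⟨p, hp⟩ : w ∈ Set.range (Y.fromSpecStalk (f x)) := by rw [Scheme.range_fromSpecStalk]; exact hw
  letI := (f.stalkMap x).hom.toAlgebra
  letI := FlatMod.moduleStalkOver f F x
  haveI : IsScalarTower (Y.presheaf.stalk (f x)) (X.presheaf.stalk x) (F.presheaf.stalk x) :=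
    ⟨fun r s m => by
      show (algebraMap _ _ r * s) • m = algebraMap (Y.presheaf.stalk (f x)) (X.presheaf.stalk x) r • s • m
      rw [mul_smul]⟩
  haveI : Module.Flat (Y.presheaf.stalk (f x)) (F.presheaf.stalk x) := hfl x
  haveI := PullbackMod.finite_stalk_of_isFT hF.2 x
  haveI : Nontrivial (F.presheaf.stalk x) := not_subsingleton_iff_nontrivial.1 hx
  obtain ⟨q, hq, hann, hqp⟩ := exists_prime_over (S := X.presheaf.stalk x) (M := F.presheaf.stalk x) p.asIdeal
    (by
      rw [Ideal.map_le_iff_le_comap]
      refine (IsLocalRing.le_maximalIdeal p.isPrime.ne_top).trans fun r hr => ?_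
      exact fun h => hr (isUnit_of_map_unit (f.stalkMap x).hom r h))
  refine ⟨X.fromSpecStalk x ⟨q, hq⟩, mem_support_of_annihilator_le F hF ⟨q, hq⟩ hann, ?_, ?_⟩
  · have : X.fromSpecStalk x ⟨q, hq⟩ ∈ Set.range (X.fromSpecStalk x) := ⟨_, rfl⟩
    rwa [Scheme.range_fromSpecStalk] at this
  · rw [← hp, ← Scheme.Hom.comp_apply, ← Scheme.SpecMap_stalkMap_fromSpecStalk, Scheme.Hom.comp_apply]
    exact congrArg _ (PrimeSpectrum.ext hqp)

theorem support_tensor_pullback (f : X ⟶ Y) (F : X.Modules) (hF : Coh.IsCoh F) (E : Y.Modules)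
    (hE : Coh.IsCoh E) :
    CohB1.support (CohB1.tensorMod ((Scheme.Modules.pullback f).obj E) F) =
      f ⁻¹' CohB1.support E ∩ CohB1.support F := by
  haveI := hE.1
  haveI := hF.1
  rw [← SuppLib.support_pullback f E hE.2]
  ext x
  haveI := SuppLib.finite_stalk_pullback f E hE.2 x
  haveI := PullbackMod.finite_stalk_of_isFT hF.2 x
  have e := (DCohLib.stalkTensor ((Scheme.Modules.pullback f).obj E) F (x := x)).toEquiv.subsingleton_congr
  constructor
  · intro h
    refine ⟨fun h1 => h ?_, fun h1 => h ?_⟩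
    · exact e.1 (subsingleton_of_forall_eq 0 fun c => by
        induction c using TensorProduct.induction_on with
        | zero => rfl
        | tmul b m => rw [@Subsingleton.elim _ h1 b 0, TensorProduct.zero_tmul]
        | add p q hp hq => rw [hp, hq, add_zero])
    · exact e.1 (subsingleton_of_forall_eq 0 fun c => by
        induction c using TensorProduct.induction_on with
        | zero => rfl
        | tmul b m => rw [@Subsingleton.elim _ h1 m 0, TensorProduct.tmul_zero]
        | add p q hp hq => rw [hp, hq, add_zero])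
  · rintro ⟨h1, h2⟩ h
    haveI := not_subsingleton_iff_nontrivial.1 h1
    haveI := not_subsingleton_iff_nontrivial.1 h2
    haveI := SuppLib.nontrivial_tensor_of_isLocalRing (R := X.presheaf.stalk x)
      (((Scheme.Modules.pullback f).obj E).presheaf.stalk x) (F.presheaf.stalk x)
    exact not_subsingleton _ (e.2 h)

end Groth.Agent.FlatMaxLib
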